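import Cfsg.Agent.Lib.CosetEnum.Pres
import Cfsg.Agent.Lib.JJ.EU2.D0
import Cfsg.Agent.Lib.JJ.EU2.D1
set_option autoImplicit false
set_option maxRecDepth 100000
namespace H74.JJ.EU2
open H54 (Tr force band)
open H18.TC
noncomputable def T : Tr := (.node (nat_lit 6968) (.node (nat_lit 3483) (.node (nat_lit 1741) (.node (nat_lit 870) (.node (nat_lit 434) (.node (nat_lit 216) (.node (nat_lit 107) T_127 T_126) (.node (nat_lit 325) T_125 T_124)) (.node (nat_lit 652) (.node (nat_lit 543) T_123 T_122) (.node (nat_lit 761) T_121 T_120))) (.node (nat_lit 1305) (.node (nat_lit 1087) (.node (nat_lit 978) T_119 T_118) (.node (nat_lit 1196) T_117 T_116)) (.node (nat_lit 1523) (.node (nat_lit 1414) T_115 T_114) (.node (nat_lit 1632) T_113 T_112)))) (.node (nat_lit 2612) (.node (nat_lit 2176) (.node (nat_lit 1958) (.node (nat_lit 1849) T_111 T_110) (.node (nat_lit 2067) T_109 T_108)) (.node (nat_lit 2394) (.node (nat_lit 2285) T_107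 T_106) (.node (nat_lit 2503) T_105 T_104))) (.node (nat_lit 3047) (.node (nat_lit 2829) (.node (nat_lit 2720) T_103 T_102) (.node (nat_lit 2938) T_101 T_100)) (.node (nat_lit 3265) (.node (nat_lit 3156) T_99 T_98) (.node (nat_lit 3374) T_97 T_96))))) (.node (nat_lit 5225) (.node (nat_lit 4354) (.node (nat_lit 3918) (.node (nat_lit 3700) (.node (nat_lit 3591) T_95 T_94) (.node (nat_lit 3809) T_93 T_92)) (.node (nat_lit 4136) (.node (nat_lit 4027) T_91 T_90) (.node (nat_lit 4245) T_89 T_88))) (.node (nat_lit 4789) (.node (nat_lit 4571) (.node (nat_lit 4462) T_87 T_86) (.node (nat_lit 4680) T_85 T_84)) (.node (nat_lit 5007) (.node (nat_lit 4898) T_83 T_82) (.node (nat_lit 5116) T_81 T_80)))) (.node (nat_lit 6096) (.node (nat_lit 5660) (.node (nat_lit 5442) (.node (nat_lit 5333) T_79 T_78) (.node (nat_lit 5551) T_77 T_76)) (.node (nat_lit 5878) (.node (nat_lit 5769) T_75 T_74) (.node (nat_lit 5987) T_73 T_72))) (.node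 (nat_lit 6532) (.node (nat_lit 6314) (.node (nat_lit 6205) T_71 T_70) (.node (nat_lit 6423) T_69 T_68)) (.node (nat_lit 6750) (.node (nat_lit 6641) T_67 T_66) (.node (nat_lit 6859) T_65 T_64)))))) (.node (nat_lit 10452) (.node (nat_lit 8710) (.node (nat_lit 7839) (.node (nat_lit 7403) (.node (nat_lit 7185) (.node (nat_lit 7076) T_63 T_62) (.node (nat_lit 7294) T_61 T_60)) (.node (nat_lit 7621) (.node (nat_lit 7512) T_59 T_58) (.node (nat_lit 7730) T_57 T_56))) (.node (nat_lit 8274) (.node (nat_lit 8056) (.node (nat_lit 7947) T_55 T_54) (.node (nat_lit 8165) T_53 T_52)) (.node (nat_lit 8492) (.node (nat_lit 8383) T_51 T_50) (.node (nat_lit 8601) T_49 T_48)))) (.node (nat_lit 9581) (.node (nat_lit 9145) (.node (nat_lit 8927) (.node (nat_lit 8818) T_47 T_46) (.node (nat_lit 9036) T_45 T_44)) (.node (nat_lit 9363) (.node (nat_lit 9254) T_43 T_42) (.node (nat_lit 9472) T_41 T_40))) (.node (nat_lit 10016) (.node (nat_lit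 9798) (.node (nat_lit 9689) T_39 T_38) (.node (nat_lit 9907) T_37 T_36)) (.node (nat_lit 10234) (.node (nat_lit 10125) T_35 T_34) (.node (nat_lit 10343) T_33 T_32))))) (.node (nat_lit 12194) (.node (nat_lit 11323) (.node (nat_lit 10887) (.node (nat_lit 10669) (.node (nat_lit 10560) T_31 T_30) (.node (nat_lit 10778) T_29 T_28)) (.node (nat_lit 11105) (.node (nat_lit 10996) T_27 T_26) (.node (nat_lit 11214) T_25 T_24))) (.node (nat_lit 11758) (.node (nat_lit 11540) (.node (nat_lit 11431) T_23 T_22) (.node (nat_lit 11649) T_21 T_20)) (.node (nat_lit 11976) (.node (nat_lit 11867) T_19 T_18) (.node (nat_lit 12085) T_17 T_16)))) (.node (nat_lit 13065) (.node (nat_lit 12629) (.node (nat_lit 12411) (.node (nat_lit 12302) T_15 T_14) (.node (nat_lit 12520) T_13 T_12)) (.node (nat_lit 12847) (.node (nat_lit 12738) T_11 T_10) (.node (nat_lit 12956) T_9 T_8))) (.node (nat_lit 13501) (.node (nat_lit 13283) (.node (nat_lit 13174)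 T_7 T_6) (.node (nat_lit 13392) T_5 T_4)) (.node (nat_lit 13719) (.node (nat_lit 13610) T_3 T_2) (.node (nat_lit 13828) T_1 T_0)))))))
noncomputable def J : Tr := (.node (nat_lit 6968) (.node (nat_lit 3483) (.node (nat_lit 1741) (.node (nat_lit 870) (.node (nat_lit 434) (.node (nat_lit 216) (.node (nat_lit 107) J_127 J_126) (.node (nat_lit 325) J_125 J_124)) (.node (nat_lit 652) (.node (nat_lit 543) J_123 J_122) (.node (nat_lit 761) J_121 J_120))) (.node (nat_lit 1305) (.node (nat_lit 1087) (.node (nat_lit 978) J_119 J_118) (.node (nat_lit 1196) J_117 J_116)) (.node (nat_lit 1523) (.node (nat_lit 1414) J_115 J_114) (.node (nat_lit 1632) J_113 J_112)))) (.node (nat_lit 2612) (.node (nat_lit 2176) (.node (nat_lit 1958) (.node (nat_lit 1849) J_111 J_110) (.node (nat_lit 2067) J_109 J_108)) (.node (nat_lit 2394) (.node (nat_lit 2285) J_107 J_106) (.node (nat_lit 2503) J_105 J_104))) (.node (nat_lit 3047) (.node (nat_lit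 2829) (.node (nat_lit 2720) J_103 J_102) (.node (nat_lit 2938) J_101 J_100)) (.node (nat_lit 3265) (.node (nat_lit 3156) J_99 J_98) (.node (nat_lit 3374) J_97 J_96))))) (.node (nat_lit 5225) (.node (nat_lit 4354) (.node (nat_lit 3918) (.node (nat_lit 3700) (.node (nat_lit 3591) J_95 J_94) (.node (nat_lit 3809) J_93 J_92)) (.node (nat_lit 4136) (.node (nat_lit 4027) J_91 J_90) (.node (nat_lit 4245) J_89 J_88))) (.node (nat_lit 4789) (.node (nat_lit 4571) (.node (nat_lit 4462) J_87 J_86) (.node (nat_lit 4680) J_85 J_84)) (.node (nat_lit 5007) (.node (nat_lit 4898) J_83 J_82) (.node (nat_lit 5116) J_81 J_80)))) (.node (nat_lit 6096) (.node (nat_lit 5660) (.node (nat_lit 5442) (.node (nat_lit 5333) J_79 J_78) (.node (nat_lit 5551) J_77 J_76)) (.node (nat_lit 5878) (.node (nat_lit 5769) J_75 J_74) (.node (nat_lit 5987) J_73 J_72))) (.node (nat_lit 6532) (.node (nat_lit 6314) (.node (nat_lit 6205) J_71 J_70) (.node (nat_lit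 6423) J_69 J_68)) (.node (nat_lit 6750) (.node (nat_lit 6641) J_67 J_66) (.node (nat_lit 6859) J_65 J_64)))))) (.node (nat_lit 10452) (.node (nat_lit 8710) (.node (nat_lit 7839) (.node (nat_lit 7403) (.node (nat_lit 7185) (.node (nat_lit 7076) J_63 J_62) (.node (nat_lit 7294) J_61 J_60)) (.node (nat_lit 7621) (.node (nat_lit 7512) J_59 J_58) (.node (nat_lit 7730) J_57 J_56))) (.node (nat_lit 8274) (.node (nat_lit 8056) (.node (nat_lit 7947) J_55 J_54) (.node (nat_lit 8165) J_53 J_52)) (.node (nat_lit 8492) (.node (nat_lit 8383) J_51 J_50) (.node (nat_lit 8601) J_49 J_48)))) (.node (nat_lit 9581) (.node (nat_lit 9145) (.node (nat_lit 8927) (.node (nat_lit 8818) J_47 J_46) (.node (nat_lit 9036) J_45 J_44)) (.node (nat_lit 9363) (.node (nat_lit 9254) J_43 J_42) (.node (nat_lit 9472) J_41 J_40))) (.node (nat_lit 10016) (.node (nat_lit 9798) (.node (nat_lit 9689) J_39 J_38) (.node (nat_lit 9907) J_37 J_36)) (.node (nat_lit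 10234) (.node (nat_lit 10125) J_35 J_34) (.node (nat_lit 10343) J_33 J_32))))) (.node (nat_lit 12194) (.node (nat_lit 11323) (.node (nat_lit 10887) (.node (nat_lit 10669) (.node (nat_lit 10560) J_31 J_30) (.node (nat_lit 10778) J_29 J_28)) (.node (nat_lit 11105) (.node (nat_lit 10996) J_27 J_26) (.node (nat_lit 11214) J_25 J_24))) (.node (nat_lit 11758) (.node (nat_lit 11540) (.node (nat_lit 11431) J_23 J_22) (.node (nat_lit 11649) J_21 J_20)) (.node (nat_lit 11976) (.node (nat_lit 11867) J_19 J_18) (.node (nat_lit 12085) J_17 J_16)))) (.node (nat_lit 13065) (.node (nat_lit 12629) (.node (nat_lit 12411) (.node (nat_lit 12302) J_15 J_14) (.node (nat_lit 12520) J_13 J_12)) (.node (nat_lit 12847) (.node (nat_lit 12738) J_11 J_10) (.node (nat_lit 12956) J_9 J_8))) (.node (nat_lit 13501) (.node (nat_lit 13283) (.node (nat_lit 13174) J_7 J_6) (.node (nat_lit 13392) J_5 J_4)) (.node (nat_lit 13719) (.node (nat_lit 13610)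 J_3 J_2) (.node (nat_lit 13828) J_1 J_0)))))))
noncomputable def F : Tr := F_0
noncomputable def row (u : ℕ) : ℕ := Nat.land (Nat.shiftRight (force (Nat.shiftRight u (nat_lit 3)) T.get) (Nat.mul (Nat.land u (nat_lit 7)) (nat_lit 324))) (nat_lit 0xfffffffffffffffffffffffffffffffffffffffffffffffffffffffffffffffffffffffffffffffff)
noncomputable def jrow (u : ℕ) : ℕ := Nat.land (Nat.shiftRight (force (Nat.shiftRight u (nat_lit 3)) J.get) (Nat.mul (Nat.land u (nat_lit 7)) (nat_lit 256))) (nat_lit 0xffffffffffffffffffffffffffffffffffffffffffffffffffffffffffffffff)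
noncomputable def fget (k fx : ℕ) : ℕ := F.get (Nat.add k fx)
noncomputable def wt0 : LT := (.node (nat_lit 1) (.node (nat_lit 0) (.leaf 23 1 [nat_lit 180, nat_lit 0, nat_lit 144])
(.leaf 39 0 [nat_lit 36, nat_lit 36]))
(.node (nat_lit 2) (.leaf 19 3 [nat_lit 108, nat_lit 0, nat_lit 180, nat_lit 108, nat_lit 144])
(.node (nat_lit 7) (.node (nat_lit 3) (.leaf 15 2 [nat_lit 72, nat_lit 216, nat_lit 72, nat_lit 216, nat_lit 72, nat_lit 216, nat_lit 72, nat_lit 216, nat_lit 0, nat_lit 216])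
(.node (nat_lit 4) (.leaf 43 0 [nat_lit 72, nat_lit 216, nat_lit 72, nat_lit 36, nat_lit 72, nat_lit 216, nat_lit 72])
(.node (nat_lit 5) (.leaf 17 0 [nat_lit 144, nat_lit 72, nat_lit 0, nat_lit 72, nat_lit 36, nat_lit 72, nat_lit 0, nat_lit 72, nat_lit 36, nat_lit 72, nat_lit 0, nat_lit 72, nat_lit 36, nat_lit 72, nat_lit 0, nat_lit 72])
(.node (nat_lit 6) (.leaf 17 13 [nat_lit 72, nat_lit 0, nat_lit 72, nat_lit 36, nat_lit 144, nat_lit 72, nat_lit 0, nat_lit 72, nat_lit 36, nat_lit 72, nat_lit 0, nat_lit 72, nat_lit 36, nat_lit 72, nat_lit 0, nat_lit 72])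
(.leaf 17 5 [nat_lit 72, nat_lit 0, nat_lit 72, nat_lit 36, nat_lit 72, nat_lit 0, nat_lit 72, nat_lit 36, nat_lit 72, nat_lit 0, nat_lit 72, nat_lit 36, nat_lit 144, nat_lit 72, nat_lit 0, nat_lit 72])))))
(.leaf 0 0 []))))
noncomputable def wt1 : LT := (.node (nat_lit 4) (.node (nat_lit 0) (.leaf 15 0 [nat_lit 216, nat_lit 36, nat_lit 72, nat_lit 216, nat_lit 72, nat_lit 216, nat_lit 72, nat_lit 216, nat_lit 72, nat_lit 216])
(.node (nat_lit 1) (.leaf 23 3 [nat_lit 144, nat_lit 36, nat_lit 180])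
(.node (nat_lit 2) (.leaf 19 5 [nat_lit 180, nat_lit 108, nat_lit 144, nat_lit 36, nat_lit 108])
(.node (nat_lit 3) (.leaf 17 15 [nat_lit 72, nat_lit 36, nat_lit 144, nat_lit 72, nat_lit 0, nat_lit 72, nat_lit 36, nat_lit 72, nat_lit 0, nat_lit 72, nat_lit 36, nat_lit 72, nat_lit 0, nat_lit 72, nat_lit 36, nat_lit 72])
(.leaf 17 11 [nat_lit 72, nat_lit 36, nat_lit 72, nat_lit 0, nat_lit 72, nat_lit 36, nat_lit 144, nat_lit 72, nat_lit 0, nat_lit 72, nat_lit 36, nat_lit 72, nat_lit 0, nat_lit 72, nat_lit 36, nat_lit 72])))))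
(.leaf 0 0 []))
noncomputable def wt2 : LT := (.node (nat_lit 4) (.node (nat_lit 0) (.leaf 11 3 [nat_lit 180, nat_lit 72, nat_lit 180])
(.node (nat_lit 1) (.leaf 37 6 [nat_lit 216, nat_lit 144, nat_lit 216, nat_lit 72, nat_lit 216, nat_lit 144, nat_lit 216])
(.node (nat_lit 2) (.leaf 5 0 [nat_lit 108, nat_lit 72, nat_lit 108, nat_lit 72, nat_lit 108])
(.node (nat_lit 3) (.leaf 43 5 [nat_lit 216, nat_lit 72, nat_lit 36, nat_lit 72, nat_lit 216, nat_lit 72, nat_lit 36])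
(.leaf 1 10 [nat_lit 216, nat_lit 108, nat_lit 216, nat_lit 72, nat_lit 216, nat_lit 108, nat_lit 216, nat_lit 72, nat_lit 216, nat_lit 108, nat_lit 216])))))
(.node (nat_lit 35) (.node (nat_lit 8) (.node (nat_lit 6) (.node (nat_lit 5) (.leaf 43 7 [nat_lit 36, nat_lit 72, nat_lit 216, nat_lit 72, nat_lit 36, nat_lit 72, nat_lit 216])
(.leaf 15 3 [nat_lit 216, nat_lit 72, nat_lit 216, nat_lit 72, nat_lit 216, nat_lit 72, nat_lit 216, nat_lit 0, nat_lit 216, nat_lit 36]))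
(.node (nat_lit 7) (.leaf 15 9 [nat_lit 216, nat_lit 0, nat_lit 216, nat_lit 36, nat_lit 72, nat_lit 216, nat_lit 72, nat_lit 216, nat_lit 72, nat_lit 216])
(.leaf 9 12 [nat_lit 108, nat_lit 144, nat_lit 108, nat_lit 72, nat_lit 216, nat_lit 72, nat_lit 108, nat_lit 72, nat_lit 216, nat_lit 72, nat_lit 216, nat_lit 180, nat_lit 180, nat_lit 108, nat_lit 72, nat_lit 216, nat_lit 72, nat_lit 108, nat_lit 144, nat_lit 108, nat_lit 72, nat_lit 216])))
(.node (nat_lit 12) (.node (nat_lit 10) (.node (nat_lit 9) (.leaf 15 7 [nat_lit 216, nat_lit 72, nat_lit 216, nat_lit 0, nat_lit 216, nat_lit 36, nat_lit 72, nat_lit 216, nat_lit 72, nat_lit 216])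
(.leaf 17 16 [nat_lit 36, nat_lit 144, nat_lit 72, nat_lit 0, nat_lit 72, nat_lit 36, nat_lit 72, nat_lit 0, nat_lit 72, nat_lit 36, nat_lit 72, nat_lit 0, nat_lit 72, nat_lit 36, nat_lit 72, nat_lit 0]))
(.node (nat_lit 11) (.leaf 17 14 [nat_lit 0, nat_lit 72, nat_lit 36, nat_lit 144, nat_lit 72, nat_lit 0, nat_lit 72, nat_lit 36, nat_lit 72, nat_lit 0, nat_lit 72, nat_lit 36, nat_lit 72, nat_lit 0, nat_lit 72, nat_lit 36])
(.leaf 41 15 [nat_lit 216, nat_lit 72, nat_lit 216, nat_lit 72, nat_lit 216, nat_lit 72, nat_lit 216, nat_lit 72, nat_lit 216, nat_lit 72, nat_lit 216, nat_lit 72, nat_lit 216, nat_lit 72, nat_lit 216])))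
(.node (nat_lit 16) (.node (nat_lit 14) (.node (nat_lit 13) (.leaf 9 16 [nat_lit 216, nat_lit 72, nat_lit 108, nat_lit 72, nat_lit 216, nat_lit 72, nat_lit 216, nat_lit 180, nat_lit 180, nat_lit 108, nat_lit 72, nat_lit 216, nat_lit 72, nat_lit 108, nat_lit 144, nat_lit 108, nat_lit 72, nat_lit 216, nat_lit 72, nat_lit 108, nat_lit 144, nat_lit 108])
(.leaf 15 5 [nat_lit 216, nat_lit 72, nat_lit 216, nat_lit 72, nat_lit 216, nat_lit 0, nat_lit 216, nat_lit 36, nat_lit 72, nat_lit 216]))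
(.node (nat_lit 15) (.leaf 7 14 [nat_lit 216, nat_lit 72, nat_lit 216, nat_lit 72, nat_lit 180, nat_lit 72, nat_lit 216, nat_lit 72, nat_lit 216, nat_lit 72, nat_lit 216, nat_lit 72, nat_lit 216, nat_lit 144, nat_lit 216, nat_lit 72, nat_lit 216])
(.leaf 7 0 [nat_lit 180, nat_lit 72, nat_lit 216, nat_lit 72, nat_lit 216, nat_lit 72, nat_lit 216, nat_lit 72, nat_lit 216, nat_lit 144, nat_lit 216, nat_lit 72, nat_lit 216, nat_lit 72, nat_lit 216, nat_lit 72, nat_lit 216])))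
(.node (nat_lit 19) (.node (nat_lit 17) (.leaf 9 6 [nat_lit 108, nat_lit 144, nat_lit 108, nat_lit 72, nat_lit 216, nat_lit 72, nat_lit 108, nat_lit 144, nat_lit 108, nat_lit 72, nat_lit 216, nat_lit 72, nat_lit 108, nat_lit 72, nat_lit 216, nat_lit 72, nat_lit 216, nat_lit 180, nat_lit 180, nat_lit 108, nat_lit 72, nat_lit 216])
(.node (nat_lit 18) (.leaf 7 6 [nat_lit 216, nat_lit 72, nat_lit 216, nat_lit 144, nat_lit 216, nat_lit 72, nat_lit 216, nat_lit 72, nat_lit 216, nat_lit 72, nat_lit 216, nat_lit 72, nat_lit 180, nat_lit 72, nat_lit 216, nat_lit 72, nat_lit 216])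
(.leaf 7 2 [nat_lit 216, nat_lit 72, nat_lit 216, nat_lit 72, nat_lit 216, nat_lit 72, nat_lit 216, nat_lit 144, nat_lit 216, nat_lit 72, nat_lit 216, nat_lit 72, nat_lit 216, nat_lit 72, nat_lit 216, nat_lit 72, nat_lit 180])))
(.node (nat_lit 22) (.node (nat_lit 20) (.leaf 17 12 [nat_lit 36, nat_lit 72, nat_lit 0, nat_lit 72, nat_lit 36, nat_lit 144, nat_lit 72, nat_lit 0, nat_lit 72, nat_lit 36, nat_lit 72, nat_lit 0, nat_lit 72, nat_lit 36, nat_lit 72, nat_lit 0])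
(.node (nat_lit 21) (.leaf 9 10 [nat_lit 216, nat_lit 72, nat_lit 108, nat_lit 144, nat_lit 108, nat_lit 72, nat_lit 216, nat_lit 72, nat_lit 108, nat_lit 72, nat_lit 216, nat_lit 72, nat_lit 216, nat_lit 180, nat_lit 180, nat_lit 108, nat_lit 72, nat_lit 216, nat_lit 72, nat_lit 108, nat_lit 144, nat_lit 108])
(.leaf 9 4 [nat_lit 216, nat_lit 72, nat_lit 108, nat_lit 144, nat_lit 108, nat_lit 72, nat_lit 216, nat_lit 72, nat_lit 108, nat_lit 144, nat_lit 108, nat_lit 72, nat_lit 216, nat_lit 72, nat_lit 108, nat_lit 72, nat_lit 216, nat_lit 72, nat_lit 216, nat_lit 180, nat_lit 180, nat_lit 108])))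
(.node (nat_lit 24) (.node (nat_lit 23) (.leaf 9 20 [nat_lit 216, nat_lit 72, nat_lit 216, nat_lit 180, nat_lit 180, nat_lit 108, nat_lit 72, nat_lit 216, nat_lit 72, nat_lit 108, nat_lit 144, nat_lit 108, nat_lit 72, nat_lit 216, nat_lit 72, nat_lit 108, nat_lit 144, nat_lit 108, nat_lit 72, nat_lit 216, nat_lit 72, nat_lit 108])
(.leaf 7 12 [nat_lit 216, nat_lit 72, nat_lit 216, nat_lit 72, nat_lit 216, nat_lit 72, nat_lit 180, nat_lit 72, nat_lit 216, nat_lit 72, nat_lit 216, nat_lit 72, nat_lit 216, nat_lit 72, nat_lit 216, nat_lit 144, nat_lit 216]))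
(.node (nat_lit 26) (.node (nat_lit 25) (.leaf 7 8 [nat_lit 216, nat_lit 144, nat_lit 216, nat_lit 72, nat_lit 216, nat_lit 72, nat_lit 216, nat_lit 72, nat_lit 216, nat_lit 72, nat_lit 180, nat_lit 72, nat_lit 216, nat_lit 72, nat_lit 216, nat_lit 72, nat_lit 216])
(.leaf 9 18 [nat_lit 108, nat_lit 72, nat_lit 216, nat_lit 72, nat_lit 216, nat_lit 180, nat_lit 180, nat_lit 108, nat_lit 72, nat_lit 216, nat_lit 72, nat_lit 108, nat_lit 144, nat_lit 108, nat_lit 72, nat_lit 216, nat_lit 72, nat_lit 108, nat_lit 144, nat_lit 108, nat_lit 72, nat_lit 216]))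
(.node (nat_lit 29) (.node (nat_lit 27) (.leaf 17 8 [nat_lit 36, nat_lit 72, nat_lit 0, nat_lit 72, nat_lit 36, nat_lit 72, nat_lit 0, nat_lit 72, nat_lit 36, nat_lit 144, nat_lit 72, nat_lit 0, nat_lit 72, nat_lit 36, nat_lit 72, nat_lit 0])
(.node (nat_lit 28) (.leaf 17 2 [nat_lit 0, nat_lit 72, nat_lit 36, nat_lit 72, nat_lit 0, nat_lit 72, nat_lit 36, nat_lit 72, nat_lit 0, nat_lit 72, nat_lit 36, nat_lit 72, nat_lit 0, nat_lit 72, nat_lit 36, nat_lit 144])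
(.leaf 33 0 [nat_lit 108, nat_lit 72, nat_lit 216, nat_lit 72, nat_lit 216, nat_lit 72, nat_lit 216, nat_lit 72, nat_lit 216, nat_lit 108, nat_lit 216, nat_lit 72, nat_lit 216, nat_lit 72, nat_lit 216, nat_lit 72, nat_lit 216])))
(.node (nat_lit 31) (.node (nat_lit 30) (.leaf 7 16 [nat_lit 216, nat_lit 72, nat_lit 180, nat_lit 72, nat_lit 216, nat_lit 72, nat_lit 216, nat_lit 72, nat_lit 216, nat_lit 72, nat_lit 216, nat_lit 144, nat_lit 216, nat_lit 72, nat_lit 216, nat_lit 72, nat_lit 216])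
(.leaf 7 4 [nat_lit 216, nat_lit 72, nat_lit 216, nat_lit 72, nat_lit 216, nat_lit 144, nat_lit 216, nat_lit 72, nat_lit 216, nat_lit 72, nat_lit 216, nat_lit 72, nat_lit 216, nat_lit 72, nat_lit 180, nat_lit 72, nat_lit 216]))
(.node (nat_lit 32) (.leaf 9 22 [nat_lit 216, nat_lit 180, nat_lit 180, nat_lit 108, nat_lit 72, nat_lit 216, nat_lit 72, nat_lit 108, nat_lit 144, nat_lit 108, nat_lit 72, nat_lit 216, nat_lit 72, nat_lit 108, nat_lit 144, nat_lit 108, nat_lit 72, nat_lit 216, nat_lit 72, nat_lit 108, nat_lit 72, nat_lit 216])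
(.node (nat_lit 33) (.leaf 33 12 [nat_lit 216, nat_lit 72, nat_lit 216, nat_lit 72, nat_lit 216, nat_lit 72, nat_lit 108, nat_lit 72, nat_lit 216, nat_lit 72, nat_lit 216, nat_lit 72, nat_lit 216, nat_lit 72, nat_lit 216, nat_lit 108, nat_lit 216])
(.node (nat_lit 34) (.leaf 17 4 [nat_lit 36, nat_lit 72, nat_lit 0, nat_lit 72, nat_lit 36, nat_lit 72, nat_lit 0, nat_lit 72, nat_lit 36, nat_lit 72, nat_lit 0, nat_lit 72, nat_lit 36, nat_lit 144, nat_lit 72, nat_lit 0])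
(.leaf 33 16 [nat_lit 216, nat_lit 72, nat_lit 108, nat_lit 72, nat_lit 216, nat_lit 72, nat_lit 216, nat_lit 72, nat_lit 216, nat_lit 72, nat_lit 216, nat_lit 108, nat_lit 216, nat_lit 72, nat_lit 216, nat_lit 72, nat_lit 216])))))))))))))
(.leaf 0 0 [])))
noncomputable def wt3 : LT := (.node (nat_lit 3) (.node (nat_lit 0) (.leaf 29 3 [nat_lit 216, nat_lit 108, nat_lit 216])
(.node (nat_lit 1) (.leaf 5 5 [nat_lit 72, nat_lit 108, nat_lit 72, nat_lit 108, nat_lit 72])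
(.node (nat_lit 2) (.leaf 45 5 [nat_lit 180, nat_lit 108, nat_lit 180, nat_lit 108, nat_lit 180])
(.leaf 19 4 [nat_lit 0, nat_lit 180, nat_lit 108, nat_lit 144, nat_lit 36]))))
(.node (nat_lit 15) (.node (nat_lit 4) (.leaf 21 9 [nat_lit 144, nat_lit 108, nat_lit 180, nat_lit 216, nat_lit 108, nat_lit 144, nat_lit 108, nat_lit 180, nat_lit 216])
(.node (nat_lit 5) (.leaf 19 1 [nat_lit 144, nat_lit 36, nat_lit 108, nat_lit 0, nat_lit 180])
(.node (nat_lit 7) (.node (nat_lit 6) (.leaf 31 14 [nat_lit 144, nat_lit 216, nat_lit 144, nat_lit 216, nat_lit 108, nat_lit 144, nat_lit 216, nat_lit 144, nat_lit 216, nat_lit 108, nat_lit 144, nat_lit 216, nat_lit 144, nat_lit 216])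
(.leaf 21 6 [nat_lit 180, nat_lit 216, nat_lit 108, nat_lit 144, nat_lit 108, nat_lit 180, nat_lit 216, nat_lit 108, nat_lit 144]))
(.node (nat_lit 9) (.node (nat_lit 8) (.leaf 9 13 [nat_lit 144, nat_lit 108, nat_lit 72, nat_lit 216, nat_lit 72, nat_lit 108, nat_lit 72, nat_lit 216, nat_lit 72, nat_lit 216, nat_lit 180, nat_lit 180, nat_lit 108, nat_lit 72, nat_lit 216, nat_lit 72, nat_lit 108, nat_lit 144, nat_lit 108, nat_lit 72, nat_lit 216, nat_lit 72])
(.leaf 33 1 [nat_lit 72, nat_lit 216, nat_lit 72, nat_lit 216, nat_lit 72, nat_lit 216, nat_lit 72, nat_lit 216, nat_lit 108, nat_lit 216, nat_lit 72, nat_lit 216, nat_lit 72, nat_lit 216, nat_lit 72, nat_lit 216, nat_lit 72]))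
(.node (nat_lit 10) (.leaf 1 0 [nat_lit 216, nat_lit 72, nat_lit 216, nat_lit 108, nat_lit 216, nat_lit 72, nat_lit 216, nat_lit 108, nat_lit 216, nat_lit 72, nat_lit 216])
(.node (nat_lit 11) (.leaf 9 15 [nat_lit 72, nat_lit 216, nat_lit 72, nat_lit 108, nat_lit 72, nat_lit 216, nat_lit 72, nat_lit 216, nat_lit 180, nat_lit 180, nat_lit 108, nat_lit 72, nat_lit 216, nat_lit 72, nat_lit 108, nat_lit 144, nat_lit 108, nat_lit 72, nat_lit 216, nat_lit 72, nat_lit 108, nat_lit 144])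
(.node (nat_lit 12) (.leaf 9 7 [nat_lit 144, nat_lit 108, nat_lit 72, nat_lit 216, nat_lit 72, nat_lit 108, nat_lit 144, nat_lit 108, nat_lit 72, nat_lit 216, nat_lit 72, nat_lit 108, nat_lit 72, nat_lit 216, nat_lit 72, nat_lit 216, nat_lit 180, nat_lit 180, nat_lit 108, nat_lit 72, nat_lit 216, nat_lit 72])
(.node (nat_lit 13) (.leaf 9 9 [nat_lit 72, nat_lit 216, nat_lit 72, nat_lit 108, nat_lit 144, nat_lit 108, nat_lit 72, nat_lit 216, nat_lit 72, nat_lit 108, nat_lit 72, nat_lit 216, nat_lit 72, nat_lit 216, nat_lit 180, nat_lit 180, nat_lit 108, nat_lit 72, nat_lit 216, nat_lit 72, nat_lit 108, nat_lit 144])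
(.node (nat_lit 14) (.leaf 9 19 [nat_lit 72, nat_lit 216, nat_lit 72, nat_lit 216, nat_lit 180, nat_lit 180, nat_lit 108, nat_lit 72, nat_lit 216, nat_lit 72, nat_lit 108, nat_lit 144, nat_lit 108, nat_lit 72, nat_lit 216, nat_lit 72, nat_lit 108, nat_lit 144, nat_lit 108, nat_lit 72, nat_lit 216, nat_lit 72])
(.leaf 9 3 [nat_lit 72, nat_lit 216, nat_lit 72, nat_lit 108, nat_lit 144, nat_lit 108, nat_lit 72, nat_lit 216, nat_lit 72, nat_lit 108, nat_lit 144, nat_lit 108, nat_lit 72, nat_lit 216, nat_lit 72, nat_lit 108, nat_lit 72, nat_lit 216, nat_lit 72, nat_lit 216, nat_lit 180, nat_lit 180]))))))))))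
(.leaf 0 0 [])))
noncomputable def wt4 : LT := (.node (nat_lit 1) (.node (nat_lit 0) (.leaf 25 0 [nat_lit 180, nat_lit 180])
(.leaf 35 1 [nat_lit 216, nat_lit 144, nat_lit 216]))
(.node (nat_lit 3) (.node (nat_lit 2) (.leaf 11 0 [nat_lit 72, nat_lit 180, nat_lit 72])
(.leaf 45 0 [nat_lit 108, nat_lit 180, nat_lit 108, nat_lit 180, nat_lit 108]))
(.node (nat_lit 5) (.node (nat_lit 4) (.leaf 23 2 [nat_lit 0, nat_lit 144, nat_lit 36])
(.leaf 19 0 [nat_lit 108, nat_lit 144, nat_lit 36, nat_lit 108, nat_lit 0]))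
(.node (nat_lit 9) (.node (nat_lit 6) (.leaf 21 7 [nat_lit 216, nat_lit 108, nat_lit 144, nat_lit 108, nat_lit 180, nat_lit 216, nat_lit 108, nat_lit 144, nat_lit 108])
(.node (nat_lit 7) (.leaf 9 2 [nat_lit 108, nat_lit 72, nat_lit 216, nat_lit 72, nat_lit 108, nat_lit 144, nat_lit 108, nat_lit 72, nat_lit 216, nat_lit 72, nat_lit 108, nat_lit 144, nat_lit 108, nat_lit 72, nat_lit 216, nat_lit 72, nat_lit 108, nat_lit 72, nat_lit 216, nat_lit 72, nat_lit 216, nat_lit 180])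
(.node (nat_lit 8) (.leaf 7 1 [nat_lit 72, nat_lit 216, nat_lit 72, nat_lit 216, nat_lit 72, nat_lit 216, nat_lit 72, nat_lit 216, nat_lit 144, nat_lit 216, nat_lit 72, nat_lit 216, nat_lit 72, nat_lit 216, nat_lit 72, nat_lit 216, nat_lit 72])
(.leaf 9 1 [nat_lit 180, nat_lit 108, nat_lit 72, nat_lit 216, nat_lit 72, nat_lit 108, nat_lit 144, nat_lit 108, nat_lit 72, nat_lit 216, nat_lit 72, nat_lit 108, nat_lit 144, nat_lit 108, nat_lit 72, nat_lit 216, nat_lit 72, nat_lit 108, nat_lit 72, nat_lit 216, nat_lit 72, nat_lit 216]))))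
(.leaf 0 0 [])))))
noncomputable def wt5 : LT := (.node (nat_lit 9) (.node (nat_lit 0) (.leaf 35 3 [nat_lit 216, nat_lit 180, nat_lit 216])
(.node (nat_lit 1) (.leaf 23 0 [nat_lit 36, nat_lit 180, nat_lit 0])
(.node (nat_lit 2) (.leaf 21 0 [nat_lit 108, nat_lit 180, nat_lit 216, nat_lit 108, nat_lit 144, nat_lit 108, nat_lit 180, nat_lit 216, nat_lit 108])
(.node (nat_lit 4) (.node (nat_lit 3) (.leaf 9 14 [nat_lit 108, nat_lit 72, nat_lit 216, nat_lit 72, nat_lit 108, nat_lit 72, nat_lit 216, nat_lit 72, nat_lit 216, nat_lit 180, nat_lit 180, nat_lit 108, nat_lit 72, nat_lit 216, nat_lit 72, nat_lit 108, nat_lit 144, nat_lit 108, nat_lit 72, nat_lit 216, nat_lit 72, nat_lit 108])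
(.leaf 19 2 [nat_lit 36, nat_lit 108, nat_lit 0, nat_lit 180, nat_lit 108]))
(.node (nat_lit 5) (.leaf 17 1 [nat_lit 72, nat_lit 0, nat_lit 72, nat_lit 36, nat_lit 72, nat_lit 0, nat_lit 72, nat_lit 36, nat_lit 72, nat_lit 0, nat_lit 72, nat_lit 36, nat_lit 72, nat_lit 0, nat_lit 72, nat_lit 36])
(.node (nat_lit 6) (.leaf 31 0 [nat_lit 216, nat_lit 144, nat_lit 216, nat_lit 108, nat_lit 144, nat_lit 216, nat_lit 144, nat_lit 216, nat_lit 108, nat_lit 144, nat_lit 216, nat_lit 144, nat_lit 216, nat_lit 108])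
(.node (nat_lit 7) (.leaf 9 8 [nat_lit 108, nat_lit 72, nat_lit 216, nat_lit 72, nat_lit 108, nat_lit 144, nat_lit 108, nat_lit 72, nat_lit 216, nat_lit 72, nat_lit 108, nat_lit 72, nat_lit 216, nat_lit 72, nat_lit 216, nat_lit 180, nat_lit 180, nat_lit 108, nat_lit 72, nat_lit 216, nat_lit 72, nat_lit 108])
(.node (nat_lit 8) (.leaf 7 10 [nat_lit 216, nat_lit 72, nat_lit 216, nat_lit 72, nat_lit 216, nat_lit 72, nat_lit 216, nat_lit 72, nat_lit 180, nat_lit 72, nat_lit 216, nat_lit 72, nat_lit 216, nat_lit 72, nat_lit 216, nat_lit 72, nat_lit 216])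
(.leaf 37 0 [nat_lit 216, nat_lit 72, nat_lit 216, nat_lit 144, nat_lit 216, nat_lit 72, nat_lit 216])))))))))
(.leaf 0 0 []))
noncomputable def wt6 : LT := (.node (nat_lit 27) (.node (nat_lit 1) (.node (nat_lit 0) (.leaf 29 0 [nat_lit 108, nat_lit 216, nat_lit 108])
(.leaf 35 0 [nat_lit 180, nat_lit 216, nat_lit 144]))
(.node (nat_lit 3) (.node (nat_lit 2) (.leaf 15 1 [nat_lit 36, nat_lit 72, nat_lit 216, nat_lit 72, nat_lit 216, nat_lit 72, nat_lit 216, nat_lit 72, nat_lit 216, nat_lit 0])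
(.leaf 35 2 [nat_lit 144, nat_lit 216, nat_lit 180]))
(.node (nat_lit 5) (.node (nat_lit 4) (.leaf 43 6 [nat_lit 72, nat_lit 36, nat_lit 72, nat_lit 216, nat_lit 72, nat_lit 36, nat_lit 72])
(.leaf 15 10 [nat_lit 0, nat_lit 216, nat_lit 36, nat_lit 72, nat_lit 216, nat_lit 72, nat_lit 216, nat_lit 72, nat_lit 216, nat_lit 72]))
(.node (nat_lit 8) (.node (nat_lit 6) (.leaf 21 8 [nat_lit 108, nat_lit 144, nat_lit 108, nat_lit 180, nat_lit 216, nat_lit 108, nat_lit 144, nat_lit 108, nat_lit 180])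
(.node (nat_lit 7) (.leaf 31 11 [nat_lit 144, nat_lit 216, nat_lit 108, nat_lit 144, nat_lit 216, nat_lit 144, nat_lit 216, nat_lit 108, nat_lit 144, nat_lit 216, nat_lit 144, nat_lit 216, nat_lit 108, nat_lit 144])
(.leaf 15 8 [nat_lit 72, nat_lit 216, nat_lit 0, nat_lit 216, nat_lit 36, nat_lit 72, nat_lit 216, nat_lit 72, nat_lit 216, nat_lit 72])))
(.node (nat_lit 10) (.node (nat_lit 9) (.leaf 1 9 [nat_lit 72, nat_lit 216, nat_lit 108, nat_lit 216, nat_lit 72, nat_lit 216, nat_lit 108, nat_lit 216, nat_lit 72, nat_lit 216, nat_lit 108])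
(.leaf 31 13 [nat_lit 108, nat_lit 144, nat_lit 216, nat_lit 144, nat_lit 216, nat_lit 108, nat_lit 144, nat_lit 216, nat_lit 144, nat_lit 216, nat_lit 108, nat_lit 144, nat_lit 216, nat_lit 144]))
(.node (nat_lit 12) (.node (nat_lit 11) (.leaf 37 5 [nat_lit 72, nat_lit 216, nat_lit 144, nat_lit 216, nat_lit 72, nat_lit 216, nat_lit 144])
(.leaf 15 4 [nat_lit 72, nat_lit 216, nat_lit 72, nat_lit 216, nat_lit 72, nat_lit 216, nat_lit 0, nat_lit 216, nat_lit 36, nat_lit 72]))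
(.node (nat_lit 15) (.node (nat_lit 13) (.leaf 9 17 [nat_lit 72, nat_lit 108, nat_lit 72, nat_lit 216, nat_lit 72, nat_lit 216, nat_lit 180, nat_lit 180, nat_lit 108, nat_lit 72, nat_lit 216, nat_lit 72, nat_lit 108, nat_lit 144, nat_lit 108, nat_lit 72, nat_lit 216, nat_lit 72, nat_lit 108, nat_lit 144, nat_lit 108, nat_lit 72])
(.node (nat_lit 14) (.leaf 15 6 [nat_lit 72, nat_lit 216, nat_lit 72, nat_lit 216, nat_lit 0, nat_lit 216, nat_lit 36, nat_lit 72, nat_lit 216, nat_lit 72])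
(.leaf 7 17 [nat_lit 72, nat_lit 180, nat_lit 72, nat_lit 216, nat_lit 72, nat_lit 216, nat_lit 72, nat_lit 216, nat_lit 72, nat_lit 216, nat_lit 144, nat_lit 216, nat_lit 72, nat_lit 216, nat_lit 72, nat_lit 216, nat_lit 72])))
(.node (nat_lit 18) (.node (nat_lit 16) (.leaf 33 17 [nat_lit 72, nat_lit 108, nat_lit 72, nat_lit 216, nat_lit 72, nat_lit 216, nat_lit 72, nat_lit 216, nat_lit 72, nat_lit 216, nat_lit 108, nat_lit 216, nat_lit 72, nat_lit 216, nat_lit 72, nat_lit 216, nat_lit 72])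
(.node (nat_lit 17) (.leaf 41 0 [nat_lit 72, nat_lit 216, nat_lit 72, nat_lit 216, nat_lit 72, nat_lit 216, nat_lit 72, nat_lit 216, nat_lit 72, nat_lit 216, nat_lit 72, nat_lit 216, nat_lit 72, nat_lit 216, nat_lit 72])
(.leaf 9 5 [nat_lit 72, nat_lit 108, nat_lit 144, nat_lit 108, nat_lit 72, nat_lit 216, nat_lit 72, nat_lit 108, nat_lit 144, nat_lit 108, nat_lit 72, nat_lit 216, nat_lit 72, nat_lit 108, nat_lit 72, nat_lit 216, nat_lit 72, nat_lit 216, nat_lit 180, nat_lit 180, nat_lit 108, nat_lit 72])))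
(.node (nat_lit 21) (.node (nat_lit 19) (.leaf 37 7 [nat_lit 144, nat_lit 216, nat_lit 72, nat_lit 216, nat_lit 144, nat_lit 216, nat_lit 72])
(.node (nat_lit 20) (.leaf 9 21 [nat_lit 72, nat_lit 216, nat_lit 180, nat_lit 180, nat_lit 108, nat_lit 72, nat_lit 216, nat_lit 72, nat_lit 108, nat_lit 144, nat_lit 108, nat_lit 72, nat_lit 216, nat_lit 72, nat_lit 108, nat_lit 144, nat_lit 108, nat_lit 72, nat_lit 216, nat_lit 72, nat_lit 108, nat_lit 72])
(.leaf 7 3 [nat_lit 72, nat_lit 216, nat_lit 72, nat_lit 216, nat_lit 72, nat_lit 216, nat_lit 144, nat_lit 216, nat_lit 72, nat_lit 216, nat_lit 72, nat_lit 216, nat_lit 72, nat_lit 216, nat_lit 72, nat_lit 180, nat_lit 72])))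
(.node (nat_lit 23) (.node (nat_lit 22) (.leaf 7 7 [nat_lit 72, nat_lit 216, nat_lit 144, nat_lit 216, nat_lit 72, nat_lit 216, nat_lit 72, nat_lit 216, nat_lit 72, nat_lit 216, nat_lit 72, nat_lit 180, nat_lit 72, nat_lit 216, nat_lit 72, nat_lit 216, nat_lit 72])
(.leaf 7 11 [nat_lit 72, nat_lit 216, nat_lit 72, nat_lit 216, nat_lit 72, nat_lit 216, nat_lit 72, nat_lit 180, nat_lit 72, nat_lit 216, nat_lit 72, nat_lit 216, nat_lit 72, nat_lit 216, nat_lit 72, nat_lit 216, nat_lit 144]))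
(.node (nat_lit 24) (.leaf 7 13 [nat_lit 72, nat_lit 216, nat_lit 72, nat_lit 216, nat_lit 72, nat_lit 180, nat_lit 72, nat_lit 216, nat_lit 72, nat_lit 216, nat_lit 72, nat_lit 216, nat_lit 72, nat_lit 216, nat_lit 144, nat_lit 216, nat_lit 72])
(.node (nat_lit 25) (.leaf 9 0 [nat_lit 180, nat_lit 180, nat_lit 108, nat_lit 72, nat_lit 216, nat_lit 72, nat_lit 108, nat_lit 144, nat_lit 108, nat_lit 72, nat_lit 216, nat_lit 72, nat_lit 108, nat_lit 144, nat_lit 108, nat_lit 72, nat_lit 216, nat_lit 72, nat_lit 108, nat_lit 72, nat_lit 216, nat_lit 72])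
(.node (nat_lit 26) (.leaf 33 15 [nat_lit 72, nat_lit 216, nat_lit 72, nat_lit 108, nat_lit 72, nat_lit 216, nat_lit 72, nat_lit 216, nat_lit 72, nat_lit 216, nat_lit 72, nat_lit 216, nat_lit 108, nat_lit 216, nat_lit 72, nat_lit 216, nat_lit 72])
(.leaf 9 11 [nat_lit 72, nat_lit 108, nat_lit 144, nat_lit 108, nat_lit 72, nat_lit 216, nat_lit 72, nat_lit 108, nat_lit 72, nat_lit 216, nat_lit 72, nat_lit 216, nat_lit 180, nat_lit 180, nat_lit 108, nat_lit 72, nat_lit 216, nat_lit 72, nat_lit 108, nat_lit 144, nat_lit 108, nat_lit 72]))))))))))))))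
(.leaf 0 0 []))
noncomputable def wt7 : LT := (.node (nat_lit 15) (.node (nat_lit 0) (.leaf 14 1 [nat_lit 216, nat_lit 72, nat_lit 216, nat_lit 72, nat_lit 216, nat_lit 72, nat_lit 216, nat_lit 72, nat_lit 0, nat_lit 216, nat_lit 36])
(.node (nat_lit 6) (.node (nat_lit 2) (.node (nat_lit 1) (.leaf 1 0 [nat_lit 216, nat_lit 72, nat_lit 216, nat_lit 108, nat_lit 216, nat_lit 72, nat_lit 216, nat_lit 108, nat_lit 216, nat_lit 72, nat_lit 216, nat_lit 108])
(.leaf 42 0 [nat_lit 0, nat_lit 72, nat_lit 216, nat_lit 72, nat_lit 0, nat_lit 72, nat_lit 216, nat_lit 72]))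
(.node (nat_lit 4) (.node (nat_lit 3) (.leaf 34 2 [nat_lit 216, nat_lit 144, nat_lit 216, nat_lit 180])
(.leaf 15 1 [nat_lit 36, nat_lit 72, nat_lit 216, nat_lit 72, nat_lit 216, nat_lit 72, nat_lit 216, nat_lit 72, nat_lit 216, nat_lit 0, nat_lit 216]))
(.node (nat_lit 5) (.leaf 17 8 [nat_lit 36, nat_lit 72, nat_lit 0, nat_lit 72, nat_lit 36, nat_lit 72, nat_lit 0, nat_lit 72, nat_lit 36, nat_lit 144, nat_lit 72, nat_lit 0, nat_lit 72, nat_lit 36, nat_lit 72, nat_lit 0, nat_lit 72])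
(.leaf 18 2 [nat_lit 108, nat_lit 0, nat_lit 180, nat_lit 108, nat_lit 144, nat_lit 36]))))
(.node (nat_lit 10) (.node (nat_lit 8) (.node (nat_lit 7) (.leaf 34 0 [nat_lit 216, nat_lit 180, nat_lit 216, nat_lit 144])
(.leaf 14 9 [nat_lit 0, nat_lit 216, nat_lit 36, nat_lit 216, nat_lit 72, nat_lit 216, nat_lit 72, nat_lit 216, nat_lit 72, nat_lit 216, nat_lit 72]))
(.node (nat_lit 9) (.leaf 15 5 [nat_lit 216, nat_lit 72, nat_lit 216, nat_lit 72, nat_lit 216, nat_lit 0, nat_lit 216, nat_lit 36, nat_lit 72, nat_lit 216, nat_lit 72])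
(.leaf 4 0 [nat_lit 72, nat_lit 108, nat_lit 72, nat_lit 108, nat_lit 72, nat_lit 108])))
(.node (nat_lit 12) (.node (nat_lit 11) (.leaf 43 0 [nat_lit 72, nat_lit 216, nat_lit 72, nat_lit 36, nat_lit 72, nat_lit 216, nat_lit 72, nat_lit 36])
(.leaf 15 10 [nat_lit 0, nat_lit 216, nat_lit 36, nat_lit 72, nat_lit 216, nat_lit 72, nat_lit 216, nat_lit 72, nat_lit 216, nat_lit 72, nat_lit 216]))
(.node (nat_lit 13) (.leaf 0 2 [nat_lit 72, nat_lit 216, nat_lit 108, nat_lit 216, nat_lit 72, nat_lit 216, nat_lit 108, nat_lit 216, nat_lit 72, nat_lit 216, nat_lit 108, nat_lit 216])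
(.node (nat_lit 14) (.leaf 43 7 [nat_lit 36, nat_lit 72, nat_lit 216, nat_lit 72, nat_lit 36, nat_lit 72, nat_lit 216, nat_lit 72])
(.leaf 17 5 [nat_lit 72, nat_lit 0, nat_lit 72, nat_lit 36, nat_lit 72, nat_lit 0, nat_lit 72, nat_lit 36, nat_lit 72, nat_lit 0, nat_lit 72, nat_lit 36, nat_lit 144, nat_lit 72, nat_lit 0, nat_lit 72, nat_lit 36])))))))
(.leaf 0 0 []))
noncomputable def sl : List (ℕ × ℕ × List ℕ × List ℕ) := [(4, nat_lit 0, [], []),
(6, nat_lit 72, [], []),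
(2, nat_lit 144, [], []),
(0, nat_lit 216, [], [])]
/-- the inverse column -/
noncomputable def icol (x : ℕ) : ℕ := List.getD [nat_lit 1, nat_lit 0, nat_lit 2, nat_lit 3, nat_lit 5, nat_lit 4, nat_lit 6] x x
noncomputable def inv (x : ℕ) : ℕ := Nat.mul (icol (Nat.div x (nat_lit 36))) (nat_lit 36)
def cols : List ℕ := [nat_lit 252, nat_lit 0, nat_lit 36, nat_lit 72, nat_lit 108, nat_lit 144, nat_lit 180, nat_lit 216]
noncomputable def cl : CL := (.cons (nat_lit 0) (nat_lit 36) (nat_lit 0) (nat_lit 0) wt0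
(.cons (nat_lit 36) (nat_lit 0) (nat_lit 32) (nat_lit 1) wt1
(.cons (nat_lit 72) (nat_lit 72) (nat_lit 64) (nat_lit 2) wt2
(.cons (nat_lit 108) (nat_lit 108) (nat_lit 96) (nat_lit 3) wt3
(.cons (nat_lit 144) (nat_lit 180) (nat_lit 128) (nat_lit 4) wt4
(.cons (nat_lit 180) (nat_lit 144) (nat_lit 160) (nat_lit 5) wt5
(.cons (nat_lit 216) (nat_lit 216) (nat_lit 192) (nat_lit 6) wt6
.nil)))))))
def rels : List (List ℕ) := [[3, 6, 2, 6, 3, 6, 2, 6, 3, 6, 2, 6],
[3, 3],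
[2, 3, 2, 3, 2, 3],
[2, 6, 2, 6, 2, 6, 2, 6, 5, 6, 2, 6, 2, 6, 2, 6, 2, 4],
[6, 2, 6, 2, 3, 2, 6, 2, 3, 5, 3, 2, 6, 2, 3, 5, 3, 2, 6, 2, 3, 4, 4],
[4, 2, 4, 2],
[6, 6],
[1, 6, 2, 6, 2, 6, 2, 6, 2, 0, 6],
[0, 2, 1, 2, 0, 2, 1, 2, 0, 2, 1, 2, 0, 2, 1, 2, 5],
[4, 1, 3, 0, 5, 3],
[5, 3, 6, 4, 3, 5, 3, 6, 4, 3],
[5, 1, 4, 0],
[4, 4, 4],
[2, 2],
[6, 3, 6, 3],
[5, 3, 6, 5, 6, 5, 3, 6, 5, 6, 5, 3, 6, 5, 6],
[2, 6, 2, 6, 2, 6, 2, 6, 3, 6, 2, 6, 2, 6, 2, 6, 2, 3],
[6, 5, 6, 4],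
[5, 6, 2, 6, 5, 6, 2, 6],
[0, 0, 0],
[6, 2, 6, 2, 6, 2, 6, 2, 6, 2, 6, 2, 6, 2, 6, 2],
[0, 2, 6, 2, 0, 2, 6, 2],
[4, 3, 4, 3, 4, 3]]
def subs : List (List ℕ) := [[6],
[4],
[0],
[2]]
noncomputable def chk : ℕ → Bool := rowChk row jrow fget sl cols (nat_lit 1) (nat_lit 111503) (nat_lit 68719476735) (nat_lit 131071) (nat_lit 68719476736) (nat_lit 252) (nat_lit 288) (nat_lit 4294967295) (nat_lit 6) (nat_lit 63) (nat_lit 1) (nat_lit 1) cl (nat_lit 224) wt7
end H74.JJ.EU2
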