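import Cfsg.Agent.Lib.CosetEnum.Pres
import Cfsg.Agent.Lib.JJ.EU2.Tab
set_option autoImplicit false
set_option maxRecDepth 100000
namespace H74.JJ.EU2
open H54 (Tr force band)
open H18.TC
theorem p0 : allB chk 14 0 = true := by decide +kernel
theorem p1 : allB chk 14 16384 = true := by decide +kernel
theorem p2 : allB chk 14 32768 = true := by decide +kernel
theorem p3 : allB chk 14 49152 = true := by decide +kernel
theorem p4 : allB chk 14 65536 = true := by decide +kernel
theorem p5 : allB chk 14 81920 = true := by decide +kernel
end H74.JJ.EU2
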